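/-
Coset enumeration data, found by a computer search; checked by `decide +kernel`.
-/
import Cfsg.Agent.Lib.Spor.TC.Check

namespace CfsgLib.Spor.Held.Seven

open CfsgLib.Spor.TC

def edgeTbl : Tbl :=
  .bin (.bin (.tip 0x700004500013000071000020001360000a0000c60000600004600010000126000120000610000200012500011000051000020001140001000004100002000103000020000f2000020000e00000d000070000010000d60000c000060000010000c50000b000050000010000b40000a000040000010000a300009000030000010000920000100008100000000076000000000650000000005400000000043000000000320000000002100000000010) (.tip 0x20000000000000000000001000000000170000e00000700002000007000020000e70000e0000e10000e0000e2000020000220000f0000270000000015700015000082000150000f100016000157000160001630001600016600016000165000160000f100008000162000150001540000800015000001000002000030000170000000009700003000033000140001430001400014600014000145000030001410000800008400003000036)) (.bin (.tip 0x900009600008000086000080000830000800008500003000035000020000230000000000500000000003000100000270000100001500001000013000040000070000a0000170000a0000a60000a000015000040000050000c0000a70000100001600000000006000060000470000d0000170000700000700002000137000060000730001300012300001000014000000000040000b00001700002000024000050000070000200011700013000105)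 (.none))

def nodeTbl : Tbl :=
  .bin (.tip 0x82000080000031000026000025000024000023000022000020000016000015000014000013000012000011000006000005000004000003000002000001000000000000) (.none)

def rowTbl : Tbl :=
  .bin (.tip 0x0) (.none)

def rels : List (List ℕ) := [[0, 1, 0, 1, 0, 1, 0, 1], [0, 2, 0, 2], [0, 3, 0, 3], [0, 4, 0, 4], [0, 5, 0, 5], [0, 6, 0, 6], [1, 2, 1, 2, 1, 2], [1, 3, 1, 3], [1, 4, 1, 4], [1, 5, 1, 5], [1, 6, 1, 6], [2, 3, 2, 3, 2, 3, 2, 3, 2, 3, 2, 3, 2, 3, 2, 3, 2, 3, 2, 3], [2, 4, 2, 4], [2, 5, 2, 5], [2, 6, 2, 6], [3, 4, 3, 4, 3, 4], [3, 5, 3, 5, 3, 5], [3, 6, 3, 6, 3, 6], [4, 5, 4, 5], [4, 6, 4, 6], [5, 6, 5, 6, 5, 6, 5, 6], [4, 6, 5, 6, 5], [4, 2, 1, 0, 2, 1, 0, 2, 1, 0], [0, 3, 2, 3, 2, 3, 2, 3, 2, 3, 2], [2, 3, 5, 6, 2, 3, 5, 6, 2, 3, 5, 6, 2, 3, 5, 6], [1, 5, 3, 6, 1]]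

def subs : List (List ℕ) := []

noncomputable def cert : Cert :=
  ⟨7, rels, subs, edgeTbl.get 44, nodeTbl.get 24, rowTbl.get 20⟩

end CfsgLib.Spor.Held.Seven
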