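/-
Coset enumeration certificate, found by a computer search.
-/
import Cfsg.Agent.Lib.Spor.Held.Seven.Data

namespace CfsgLib.Spor.Held.Seven

open CfsgLib.Spor.TC

def scodes0_0 : List ℕ :=
  [0x1,
   0x1,
   0x1,
   0x1,
   0x1,
   0x1,
   0x1,
   0x1,
   0x1,
   0x5000020001200003000010000200002,
   0x1,
   0x7000020001600003000010000300002,
   0x1,
   0x9000020001a00003000010000400002,
   0x1,
   0xb000020001e00003000010000500002,
   0x1,
   0xd000020002200003000010000600002,
   0x1,
   0x1,
   0x1,
   0x7000040002a00003000010000800002,
   0x1,
   0x9000040002e00003000010000900002,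
   0x1,
   0xb000040003200003000010000a00002,
   0x3400033000310002a00004000070001a00002,
   0x2b000360003400004000050000b00002,
   0x200003800017000040000d0000600002,
   0x1,
   0xd000040003c00003000010000b00002,
   0x70000e0003d0003e00002000140001a00002,
   0x2c0003f0003d00002000080000a00002,
   0x2d0003c00042000360003100006000120001600002,
   0x4000440003000004,
   0x2e0004300004,
   0x1000450001b00004,
   0xa0004600004,
   0x1a0004a00004,
   0x350002c0002b0004100003000050001a00002,
   0x3d000500003400004000080000800002,
   0x50000310002a00041000500003100007000140001100002,
   0x4000540003e00004,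
   0x1000550002300004,
   0x7000550005100004,
   0xe0005600004,
   0x220005800004,
   0x18000590001f00004,
   0xc0005a00004,
   0x1e0006000004,
   0x3a0006000004,
   0x1600065000150005d000160006500007000020001200002,
   0x2000670001800004,
   0x160006800004,
   0x630006800004,
   0x3000690002b00004,
   0x80006a00004,
   0x610006a00004,
   0x2a0007000004,
   0x5000730000600004000040000e00002,
   0xf0006d0001000004000090000a00002,
   0xf0006b0001000004000090000800002,
   0xf00010000790007b00004000020001a00002,
   0x110005d00012000040000a0000f00002,
   0x130007f0001400004000040000600002,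
   0xf0004d0001000004000090000900002,
   0x1,
   0x85000780008600002000040000a00002,
   0x85000820008600002000040000b00002,
   0x8a00085000860008700003000040001a00002,
   0x860008c0008500002000150000800002,
   0x140008d0000500071000060008d0000500071000060008d000050000c0000a0001800002,
   0x1000900001400004,
   0x60009200004,
   0x1,
   0x95000840009600002000090000400002,
   0x1,
   0x270000300093000100009a00003000020000700002,
   0x990007a0009a00002000090000e00002,
   0x990007e0009a00002000090000f00002,
   0xa00009c0009b0009d00003000100001a00002,
   0x950007b0009a000a1000990007b0009a000a1000990007b0009a0000c000160001800002,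
   0x9b000a400004,
   0x9a000a400004,
   0x97000a80000f00001000930001000096000a80000f000010000b000160001700002,
   0x3000aa000a600004,
   0x28000ac00004,
   0x25000ad00026000040000f0000200002,
   0x2500047000ad0000300002000940000400026000af00009000030001700002,
   0x2500075000ad00075000ad00075000ad00075000ad00075000ad0000c0000f0001800002,
   0x4000b4000b1000b300004,
   0xb5000b400004,
   0x94000b7000af000b800004,
   0x4000b600004,
   0x2000b900004,
   0x93000b900004]

def scodes0_ : List ℕ :=
  scodes0_0

set_option maxRecDepth 100000 in
theorem steps0 : cert.StepsOK 0 96 :=
  Cert.StepsOK.of_check _ (codes := scodes0_) (by decide +kernel)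

def rcodes0_0 : List ℕ :=
  [0x5b000010000730000100004b00001000071000010000bf000010000bb000010000bd00001]

def rcodes0_ : List ℕ :=
  rcodes0_0

set_option maxRecDepth 100000 in
theorem rows0 : cert.RowsOK 96 1 0 1 :=
  Cert.RowsOK.of_check _ (codes := rcodes0_) (by decide +kernel)

end CfsgLib.Spor.Held.Seven
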